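import Groth.Agent.Boundary.Glue
import Groth.Agent.InvX.GenLocusPull
import Groth.Agent.H23.TrivBasic
import Groth.Agent.QCoh.DevissageIdeal
import Mathlib.AlgebraicGeometry.Morphisms.ClosedImmersion

/-! Gluing invertible modules along closed subschemes with discrete pairwise intersections. -/

noncomputable section

set_option linter.style.haveILetI false
set_option backward.isDefEq.respectTransparency false
set_option backward.isDefEq.respectTransparency.types false

universe u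

open CategoryTheory CategoryTheory.Limits AlgebraicGeometry TopologicalSpace

namespace Groth.Agent.Boundary

open Groth.Agent.AModX Groth.Agent.InvX

attribute [local instance] Abelian.hasFiniteBiproducts

variable {X Y : Scheme.{u}}

/-- A morphism of modules sending frames of a cover to frames is an isomorphism. -/
theorem isIso_of_frames {M N : X.Modules} (φ : M ⟶ N) {ι : Type u} (U : ι → X.Opens) (hcov : ∀ p, ∃ i, p ∈ U i)
    (e : ∀ i, Γ(M, U i)) (he : ∀ i, IsFrame (e i)) (hn : ∀ i, IsFrame (φ.app (U i) (e i))) : IsIso φ :=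
  Scheme.Modules.Hom.isIso_iff_isIso_app.2 fun V => (ConcreteCategory.isIso_iff_bijective _).2
    (bijective_app_of_locally φ U (fun p _ => hcov p) fun i V' hV' => bijective_app_of_frame φ (he i) (hn i) hV')

/-- A frame on a closed subscheme pushes to a frame where the subscheme is everything. -/
theorem isFrame_push_of_isIso (i : Y ⟶ X) {N : Y.Modules} {V : X.Opens} (h : IsIso (i ∣_ V))
    (e : Γ(N, i ⁻¹ᵁ V)) (he : IsFrame e) :
    IsFrame (M := (Scheme.Modules.pushforward i).obj N) (U := V) e := by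
  intro V' hV'
  have hb : Function.Bijective (i.app V') := by
    haveI := h
    have h2 : IsIso ((i ∣_ V).app (V.ι ⁻¹ᵁ V')) := inferInstance
    rw [morphismRestrict_app] at h2
    haveI := h2
    haveI : IsIso (i.app (V.ι ''ᵁ (V.ι ⁻¹ᵁ V'))) :=
      IsIso.of_isIso_comp_right _ (Y.presheaf.map (eqToHom (image_morphismRestrict_preimage i V (V.ι ⁻¹ᵁ V'))).op)
    have hV'' : V.ι ''ᵁ (V.ι ⁻¹ᵁ V') = V' := by
      rw [Scheme.Hom.image_preimage_eq_opensRange_inf, Scheme.Opens.opensRange_ι, inf_eq_right.2 hV']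
    have hb' : Function.Bijective (i.app (V.ι ''ᵁ (V.ι ⁻¹ᵁ V'))) :=
      (ConcreteCategory.isIso_iff_bijective _).1 inferInstance
    exact hV'' ▸ hb'
  have key : ∀ (r : Γ(X, V')) (m : Γ((Scheme.Modules.pushforward i).obj N, V')),
      r • m = (show Γ((Scheme.Modules.pushforward i).obj N, V') from
        (i.app V' r) • (show Γ(N, i ⁻¹ᵁ V') from m)) := fun r m => QCoh.pushforward_smul i V' r m
  refine Iff.mp (Iff.of_eq (congrArg Function.Bijective (funext fun r => ?_)))
    ((he (i ⁻¹ᵁ V') (i.preimage_mono hV')).comp hb)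
  rw [key r]
  rfl

/-- Over an empty open every section is a frame. -/
theorem isFrame_of_eq_bot {M : X.Modules} {U : X.Opens} (hU : U = ⊥) (e : Γ(M, U)) : IsFrame e :=
  H23.TrivBasic.isFrame_of_germwise fun x hx => absurd (hU ▸ hx : x ∈ (⊥ : X.Opens)) (fun h => h)

theorem eq_zero_of_eq_bot {M : X.Modules} {U : X.Opens} (hU : U = ⊥) (e : Γ(M, U)) : e = 0 :=
  eq_of_locally _ _ fun x hx => absurd (hU ▸ hx : x ∈ (⊥ : X.Opens)) (fun h => h)

theorem pullback_adjunct_pullElt (i : Y ⟶ X) {M : X.Modules} {N : Y.Modules}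
    (φ : M ⟶ (Scheme.Modules.pushforward i).obj N) {V : X.Opens} (a : Γ(M, V)) :
    (((Scheme.Modules.pullbackPushforwardAdjunction i).homEquiv M N).symm φ).app (i ⁻¹ᵁ V) (pullElt i a) =
      φ.app V a := by
  have h := ((Scheme.Modules.pullbackPushforwardAdjunction i).homEquiv M N).apply_symm_apply φ
  rw [Adjunction.homEquiv_unit] at h
  exact ConcreteCategory.congr_hom (congrArg (fun ψ => Scheme.Modules.Hom.app ψ V) h) a

/-- Invertible modules on closed subschemes covering a reduced scheme with discrete overlaps glue. -/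
theorem exists_glue_components [IsReduced X] {κ : Type u} [Fintype κ] (Z : κ → X.IdealSheafData)
    (hcov : ⋃ i, ((Z i).support : Set X) = Set.univ)
    (hdisc : ∀ i j, i ≠ j → DiscreteTopology ↥(((Z i).support : Set X) ∩ ((Z j).support : Set X)))
    (L : ∀ i, (Z i).subscheme.Modules) (hL : ∀ i, PicF.IsInvertible (L i)) :
    ∃ M : X.Modules, PicF.IsInvertible M ∧
      ∀ i, Nonempty ((Scheme.Modules.pullback (Z i).subschemeι).obj M ≅ L i) := by
  classical
  let ι := fun i => (Z i).subschemeι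
  have hr : ∀ i, Set.range (ι i) = ((Z i).support : Set X) := fun i => Scheme.IdealSheafData.range_subschemeι _
  let Ui : κ → X.Opens := fun i =>
    ⟨(⋃ j ∈ {j | j ≠ i}, ((Z j).support : Set X))ᶜ,
      ((Set.toFinite _).isClosed_biUnion fun j _ => (Z j).support.isClosed).isOpen_compl⟩
  let U : X.Opens := ⨆ i, Ui i
  have honly : ∀ (i j : κ), i ≠ j → ∀ p : X, p ∈ Ui i → p ∉ ((Z j).support : Set X) := fun i j hij p hp hp' =>
    hp (Set.mem_iUnion₂.2 ⟨j, fun h => hij h.symm, hp'⟩)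
  have hbot : ∀ (i j : κ), i ≠ j → ι j ⁻¹ᵁ Ui i = ⊥ := fun i j hij =>
    Opens.ext (Set.eq_empty_iff_forall_notMem.2 fun z hz => honly i j hij _ hz ((hr j).le ⟨z, rfl⟩))
  have hiso : ∀ (i : κ) (V : X.Opens), V ≤ Ui i → IsIso (ι i ∣_ V) := fun i V hV => by
    haveI : IsClosedImmersion (ι i ∣_ V) := IsZariskiLocalAtTarget.restrict (P := @IsClosedImmersion) inferInstance V
    haveI : Surjective (ι i ∣_ V) := ⟨fun p => by
      obtain ⟨j, hj⟩ := Set.mem_iUnion.1 (hcov.ge (trivial : p.1 ∈ Set.univ))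
      have : j = i := by_contra fun hne => honly i j (Ne.symm hne) _ (hV p.2) hj
      subst this
      obtain ⟨z, hz⟩ := (hr j).ge hj
      refine ⟨⟨z, show ι j z ∈ V by rw [hz]; exact p.2⟩, V.ι.isOpenEmbedding.injective ?_⟩
      show ((ι j ∣_ V) ≫ V.ι) _ = p.1
      rw [morphismRestrict_ι]
      exact hz⟩
    exact isIso_of_isClosedImmersion_of_surjective _
  have hframe : ∀ (p : X) (i : κ), ∃ (W : X.Opens) (_ : p ∈ W) (e : Γ(L i, ι i ⁻¹ᵁ W)), IsFrame e := by
    intro p i
    by_cases hp : p ∈ ((Z i).support : Set X)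
    · obtain ⟨z, hz⟩ := (hr i).ge hp
      obtain ⟨O, hzO, e, he⟩ := InvX.exists_frame (hL i) z
      obtain ⟨W, hW, hWO⟩ := (ι i).isClosedEmbedding.isEmbedding.isInducing.isOpen_iff.1 O.isOpen
      have hle : ι i ⁻¹ᵁ ⟨W, hW⟩ ≤ O := fun q hq => hWO.le hq
      exact ⟨⟨W, hW⟩, hz ▸ hWO.ge hzO, res (L i) hle e, he.res hle⟩
    · exact ⟨⟨((Z i).support : Set X)ᶜ, (Z i).support.isClosed.isOpen_compl⟩, hp, 0, isFrame_of_eq_bot
        (Opens.ext (Set.eq_empty_iff_forall_notMem.2 fun z (hz : ι i z ∈ ((Z i).support : Set X)ᶜ) => hz ((hr i).le ⟨z, rfl⟩))) _⟩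
  choose W hpW e he using hframe
  -- isolating neighbourhoods
  have hsep : ∀ p : X, ∃ O : X.Opens, p ∈ O ∧ (p ∈ U → O ≤ U) ∧ ∀ y ∈ O, y ∉ U → y = p := by
    intro p
    by_cases hp : p ∈ U
    · exact ⟨U, hp, fun _ => le_rfl, fun y hy hyU => absurd hy hyU⟩
    have hO : ∀ q : {q : κ × κ // q.1 ≠ q.2}, ∃ O : X.Opens, p ∈ O ∧
        ∀ y ∈ O, y ∈ ((Z q.1.1).support : Set X) → y ∈ ((Z q.1.2).support : Set X) → y = p := by
      rintro ⟨⟨a, b⟩, hab⟩
      haveI := hdisc a b hab
      by_cases hpab : p ∈ ((Z a).support : Set X) ∩ ((Z b).support : Set X)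
      · obtain ⟨O, hO, hOp⟩ := isOpen_induced_iff.1 (isOpen_discrete ({⟨p, hpab⟩} : Set ↥(((Z a).support : Set X) ∩ (Z b).support)))
        exact ⟨⟨O, hO⟩, (Set.ext_iff.1 hOp ⟨p, hpab⟩).2 rfl, fun y hy h1 h2 =>
          congrArg Subtype.val ((Set.ext_iff.1 hOp ⟨y, h1, h2⟩).1 hy)⟩
      · exact ⟨⟨(((Z a).support : Set X) ∩ (Z b).support)ᶜ,
          ((Z a).support.isClosed.inter (Z b).support.isClosed).isOpen_compl⟩, hpab,
          fun y hy h1 h2 => absurd ⟨h1, h2⟩ hy⟩
    choose O hpO hO using hO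
    refine ⟨⟨⋂ q, (O q : Set X), isOpen_iInter_of_finite fun q => (O q).2⟩, Set.mem_iInter.2 hpO,
      fun h => absurd h hp, fun y hy hyU => ?_⟩
    obtain ⟨a, ha⟩ := Set.mem_iUnion.1 (hcov.ge (trivial : y ∈ Set.univ))
    obtain ⟨b, hb, hyb⟩ : ∃ b, b ≠ a ∧ y ∈ ((Z b).support : Set X) := by
      by_contra hno
      simp only [not_exists, not_and] at hno
      exact hyU (Opens.mem_iSup.2 ⟨a, fun h => by
        obtain ⟨j, hj, hj'⟩ := Set.mem_iUnion₂.1 h
        exact hno j hj hj'⟩)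
    exact hO ⟨(a, b), hb.symm⟩ y (Set.mem_iInter.1 hy _) ha hyb
  choose O hpO hOU hOonly using hsep
  let V : X → X.Opens := fun p => O p ⊓ ⟨⋂ i, (W p i : Set X), isOpen_iInter_of_finite fun i => (W p i).2⟩
  have hVW : ∀ p i, V p ≤ W p i := fun p i y hy => Set.mem_iInter.1 hy.2 i
  let T : κ → X.Modules := fun i => (Scheme.Modules.pushforward (ι i)).obj (L i)
  let c : ∀ p i, Γ(T i, V p) := fun p i => res (L i) ((ι i).preimage_mono (hVW p i)) (e p i)
  have hc : ∀ p i, IsFrame (M := L i) (U := ι i ⁻¹ᵁ V p) (c p i) := fun p i => (he p i).res _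
  let em : ∀ p, Γ(⨁ T, V p) := fun p => ∑ i, (biproduct.ι T i).app (V p) (c p i)
  have hπ : ∀ p i, (biproduct.π T i).app (V p) (em p) = c p i := fun p i => by
    rw [map_sum]
    refine (Finset.sum_eq_single i (fun j _ hj => ?_) fun h => absurd (Finset.mem_univ i) h).trans ?_
    · show ((biproduct.ι T j ≫ biproduct.π T i).app (V p)) (c p j) = 0
      rw [biproduct.ι_π_ne T hj]; rfl
    · show ((biproduct.ι T i ≫ biproduct.π T i).app (V p)) (c p i) = c p i
      rw [biproduct.ι_π_self]; rfl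
  have hfrU : ∀ p, IsFrame (res (⨁ T) (inf_le_left : V p ⊓ U ≤ V p) (em p)) := fun p => by
    refine H23.TrivBasic.isFrame_of_germwise fun x hx => ?_
    obtain ⟨i, hi⟩ := Opens.mem_iSup.1 hx.2
    have hle : V p ⊓ Ui i ≤ V p ⊓ U := inf_le_inf_left _ (le_iSup Ui i)
    refine ⟨V p ⊓ Ui i, hle, ⟨hx.1, hi⟩, ?_⟩
    rw [res_res]
    intro V' hV'
    rw [res_res]
    have hz : ∀ (j : κ), j ≠ i → ∀ a : Γ(T j, V'), a = 0 := fun j hj a =>
      eq_zero_of_eq_bot (M := L j)
        (le_bot_iff.1 (((ι j).preimage_mono (hV'.trans inf_le_right)).trans (hbot i j (Ne.symm hj)).le)) a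
    have hfr := isFrame_push_of_isIso (ι i) (hiso i _ inf_le_right)
      (res (L i) ((ι i).preimage_mono (inf_le_left : V p ⊓ Ui i ≤ V p)) (c p i)) ((hc p i).res _) V' hV'
    have hbi : Function.Bijective ((biproduct.π T i).app V') := by
      refine ⟨fun a b hab => ?_, fun a => ⟨(biproduct.ι T i).app V' a, ?_⟩⟩
      · rw [QCoh.biproduct_app_decomp T V' a, QCoh.biproduct_app_decomp T V' b]
        refine Finset.sum_congr rfl fun j _ => congrArg _ ?_
        by_cases hj : j = i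
        · subst hj; exact hab
        · rw [hz j hj ((biproduct.π T j).app V' a), hz j hj ((biproduct.π T j).app V' b)]
      · show ((biproduct.ι T i ≫ biproduct.π T i).app V') a = a
        rw [biproduct.ι_π_self]; rfl
    refine (Function.Bijective.of_comp_iff' hbi _).1 ?_
    convert hfr using 1
    funext r
    show (biproduct.π T i).app V' (r • res (⨁ T) _ (em p)) = _
    rw [Scheme.Modules.Hom.app_smul, app_res, hπ]
    exact congrArg (r • ·) (res_res (M := T i) (inf_le_left : V p ⊓ Ui i ≤ V p) hV' (c p i)).symm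
  obtain ⟨M, φ, f, hM, hf, hφ, -⟩ := exists_glue (⨁ T) U V (fun p => ⟨p, hpO p, Set.mem_iInter.2 (hpW p)⟩)
    (fun p q hpq y hy => by
      by_contra hyU
      by_cases hp : p ∈ U
      · exact hyU (hOU p hp hy.1.1)
      · exact hpq ((hOonly p y hy.1.1 hyU).symm.trans (hOonly q y hy.2.1 hyU)))
    em hfrU
  refine ⟨M, hM, fun i => ?_⟩
  let ψ := ((Scheme.Modules.pullbackPushforwardAdjunction (ι i)).homEquiv M (L i)).symm (φ ≫ biproduct.π T i)
  haveI : IsIso ψ := isIso_of_frames ψ (ι := X) (fun p => ι i ⁻¹ᵁ V p)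
    (fun z => ⟨ι i z, show ι i z ∈ V (ι i z) from ⟨hpO _, Set.mem_iInter.2 (hpW _)⟩⟩)
    (fun p => pullElt (ι i) (f p)) (fun p => isFrame_pullElt _ (hf p)) fun p => by
      have h1 : (φ ≫ biproduct.π T i).app (V p) (f p) = c p i :=
        (congrArg ((biproduct.π T i).app (V p)) (hφ p)).trans (hπ p i)
      rw [pullback_adjunct_pullElt, h1]
      exact hc p i
  exact ⟨asIso ψ⟩

end Groth.Agent.Boundary
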