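import Groth.Agent.H23.CocycleMod
import Groth.Agent.InvX.GenLocus
import Groth.Agent.InvX.Tensor
import Groth.Agent.InvUfdLib.Trivial
import Groth.Agent.QCoh.Qcqs

/-! Extending invertible modules across a discrete boundary. -/

noncomputable section

set_option linter.style.haveILetI false
set_option backward.isDefEq.respectTransparency false
set_option backward.isDefEq.respectTransparency.types false

universe u

open CategoryTheory CategoryTheory.Limits AlgebraicGeometry TopologicalSpace

namespace Groth.Agent.Boundary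

open Groth.Agent.AModX Groth.Agent.InvX

variable {X : Scheme.{u}}

/-- Bijectivity on sections can be checked locally, with all smaller opens. -/
theorem bijective_app_of_locally {M N : X.Modules} (φ : M ⟶ N) {V : X.Opens} {ι : Type u}
    (W : ι → X.Opens) (hcov : ∀ p ∈ V, ∃ i, p ∈ W i)
    (h : ∀ (i : ι) (V' : X.Opens), V' ≤ W i → Function.Bijective (φ.app V')) :
    Function.Bijective (φ.app V) := by
  let W' : ι → X.Opens := fun i => V ⊓ W i
  have hinj : ∀ (i : ι) (V' : X.Opens), V' ≤ W i → ∀ a b : Γ(M, V'), φ.app V' a = φ.app V' b → a = b :=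
    fun i V' hV' a b e => (h i V' hV').1 e
  refine ⟨fun a b e => eq_of_locally _ _ fun p hp => ?_, fun t => ?_⟩
  · obtain ⟨i, hi⟩ := hcov p hp
    refine ⟨W' i, inf_le_left, ⟨hp, hi⟩, hinj i _ inf_le_right _ _ ?_⟩
    rw [app_res, app_res, e]
  · choose s hs using fun i => (h i (W' i) inf_le_right).2 (res N inf_le_left t)
    obtain ⟨a, ha, -⟩ := existsUnique_glue (M := M) W' (fun i => inf_le_left)
      (fun p hp => (hcov p hp).imp fun i hi => ⟨hp, hi⟩) s fun i j => by
        refine hinj i _ (inf_le_left.trans inf_le_right) _ _ ?_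
        rw [app_res, app_res, hs, hs, res_res, res_res]
    refine ⟨a, eq_of_locally _ _ fun p hp => ?_⟩
    obtain ⟨i, hi⟩ := hcov p hp
    refine ⟨W' i, inf_le_left, ⟨hp, hi⟩, ?_⟩
    rw [← app_res, ha i, hs]

/-- A morphism sending a frame to a frame is bijective below it. -/
theorem bijective_app_of_frame {M N : X.Modules} (φ : M ⟶ N) {U : X.Opens} {e : Γ(M, U)} (he : IsFrame e)
    (hn : IsFrame (φ.app U e)) {V : X.Opens} (hV : V ≤ U) : Function.Bijective (φ.app V) := by
  have h := hn V hV
  rw [show (fun r : Γ(X, V) => r • res N hV (φ.app U e)) = (φ.app V) ∘ fun r : Γ(X, V) => r • res M hV e from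
    funext fun r => by
      rw [← app_res]
      exact (Scheme.Modules.Hom.app_smul _ _ _).symm] at h
  exact ((he V hV).of_comp_iff _).1 h

/-- Frames on an open subscheme give frames of the direct image. -/
theorem isFrame_push (U : X.Opens) (N : (U : Scheme.{u}).Modules) {W : X.Opens} (hW : W ≤ U)
    (e : Γ(N, U.ι ⁻¹ᵁ W)) (he : IsFrame e) :
    IsFrame (M := (Scheme.Modules.pushforward U.ι).obj N) (U := W) e := by
  intro V hV
  have hVU : V ≤ U.ι.opensRange := by
    rw [Scheme.Opens.opensRange_ι]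
    exact hV.trans hW
  haveI := U.ι.isIso_app V hVU
  have hb : Function.Bijective (U.ι.app V) := (ConcreteCategory.isIso_iff_bijective _).1 inferInstance
  have h := (he (U.ι ⁻¹ᵁ V) (U.ι.preimage_mono hV)).comp hb
  have key : ∀ (r : Γ(X, V)) (m : Γ((Scheme.Modules.pushforward U.ι).obj N, V)),
      r • m = (show Γ((Scheme.Modules.pushforward U.ι).obj N, V) from
        (U.ι.app V r) • (show Γ(N, U.ι ⁻¹ᵁ V) from m)) := fun r m => QCoh.pushforward_smul U.ι V r m
  refine Iff.mp (Iff.of_eq (congrArg Function.Bijective (funext fun r => ?_))) h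
  rw [key r]
  rfl

/-- Gluing an invertible module from frames over the parts of a cover, pairwise meeting inside `U`. -/
theorem exists_glue (M : X.Modules) (U : X.Opens) {ι : Type u} [DecidableEq ι] (V : ι → X.Opens)
    (hcov : ∀ p, ∃ i, p ∈ V i) (hov : ∀ i j, i ≠ j → V i ⊓ V j ≤ U) (e : ∀ i, Γ(M, V i))
    (he : ∀ i, IsFrame (res M (inf_le_left : V i ⊓ U ≤ V i) (e i))) :
    ∃ (L : X.Modules) (φ : L ⟶ M) (f : ∀ i, Γ(L, V i)), PicF.IsInvertible L ∧
      (∀ i, IsFrame (f i)) ∧ (∀ i, φ.app (V i) (f i) = e i) ∧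
      ∀ W : X.Opens, W ≤ U → Function.Bijective (φ.app W) := by
  have hcoord : ∀ (i j : ι) (W : X.Opens) (hi : W ≤ V i) (hj : W ≤ V j) (hU : W ≤ U),
      ∃ g : Γ(X, W), res M hi (e i) = g • res M hj (e j) := fun i j W hi hj hU => by
    obtain ⟨g, hg⟩ := (he j).exists_coord (le_inf hj hU) (res M hi (e i))
    rw [res_res] at hg
    exact ⟨g, hg⟩
  have huniq : ∀ (j : ι) (W : X.Opens) (hj : W ≤ V j) (_ : W ≤ U) (g g' : Γ(X, W)),
      g • res M hj (e j) = g' • res M hj (e j) → g = g' := fun j W hj hU g g' h =>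
    (he j).coord_unique (le_inf hj hU) (by rw [res_res]; exact h)
  have hg : ∀ i j, ∃ g : (Γ(X, V i ⊓ V j))ˣ, (i = j → (g : Γ(X, V i ⊓ V j)) = 1) ∧
      ∀ (W : X.Opens) (hi : W ≤ V i) (hj : W ≤ V j), W ≤ U →
        res M hi (e i) = resR (le_inf hi hj) (g : Γ(X, V i ⊓ V j)) • res M hj (e j) := fun i j => by
    by_cases h : i = j
    · subst h
      exact ⟨1, fun _ => rfl, fun W hi hj _ => by rw [Units.val_one, map_one, one_smul]⟩
    · obtain ⟨g, hg⟩ := hcoord i j (V i ⊓ V j) inf_le_left inf_le_right (hov i j h)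
      obtain ⟨g', hg'⟩ := hcoord j i (V i ⊓ V j) inf_le_right inf_le_left (hov i j h)
      have h1 : g * g' = 1 := huniq i (V i ⊓ V j) inf_le_left (hov i j h) _ _ (by
        rw [one_smul, mul_smul, ← hg', ← hg])
      exact ⟨⟨g, g', h1, (mul_comm g' g).trans h1⟩, fun he' => absurd he' h, fun W hi hj _ => by
        have := congrArg (res M (le_inf hi hj)) hg
        rw [res_smul, res_res, res_res] at this
        exact this⟩
  choose g hg1 hgU using hg
  let t : H23.CocycleMod.Cocycle V :=
    { g := g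
      trans := fun i j k W hi hj hk => by
        by_cases h : i = j ∧ j = k
        · obtain ⟨rfl, rfl⟩ := h
          rw [hg1 i i rfl, map_one, mul_one]
        · have hU : W ≤ U := by
            by_cases h1 : i = j
            · exact (le_inf hj hk).trans (hov j k fun h2 => h ⟨h1, h2⟩)
            · exact (le_inf hi hj).trans (hov i j h1)
          refine huniq k W hk hU _ _ ?_
          rw [mul_comm, mul_smul, ← hgU j k W hj hk hU, ← hgU i j W hi hj hU, ← hgU i k W hi hk hU] }
  let L := H23.CocycleMod.mod t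
  let f : ∀ i, Γ(L, V i) := fun i => H23.CocycleMod.frame t i
  have hf : ∀ i, IsFrame (f i) := H23.CocycleMod.isFrame_frame t
  have hc : ∀ (a b : ι) (W : X.Opens) (ha : W ≤ V a) (hb : W ≤ V b) (c : Γ(X, W)),
      res L hb (f b) = c • res L ha (f a) → res M hb (e b) = c • res M ha (e a) := by
    intro a b W ha hb c hcab
    have h0 := congrArg (res L (le_inf hb ha)) (H23.CocycleMod.res_frame t b a)
    rw [res_smul, res_res, res_res] at h0
    have hc' : c = resR (le_inf hb ha) (g b a : Γ(X, V b ⊓ V a)) :=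
      (hf a).coord_unique ha (hcab.symm.trans h0)
    by_cases hab : b = a
    · subst hab
      rw [hc', hg1 b b rfl, map_one, one_smul]
    · rw [hc']
      exact hgU b a W hb ha ((le_inf hb ha).trans (hov b a hab))
  let φ : L ⟶ M := InvX.ofFrames hcov hf hc
  have hφ : ∀ i, φ.app (V i) (f i) = e i := fun i => InvX.ofFrames_app hcov hf hc i
  refine ⟨L, φ, f, H23.CocycleMod.isInvertible t ?_, hf, hφ, fun W hW => ?_⟩
  · exact eq_top_iff.2 fun p _ => Opens.mem_iSup.2 (hcov p)
  · refine bijective_app_of_locally φ (fun i => V i ⊓ U) (fun p hp => (hcov p).imp fun i hi => ⟨hi, hW hp⟩)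
      fun i V' hV' => bijective_app_of_frame φ ((hf i).res inf_le_left) ?_ hV'
    rw [app_res, hφ]
    exact he i

/-- A morphism bijective below `U` restricts to an isomorphism. -/
theorem isIso_restrict_of_bijective {L M : X.Modules} (φ : L ⟶ M) (U : X.Opens)
    (h : ∀ W : X.Opens, W ≤ U → Function.Bijective (φ.app W)) :
    IsIso ((Scheme.Modules.restrictFunctor U.ι).map φ) :=
  Scheme.Modules.Hom.isIso_iff_isIso_app.2 fun W =>
    (ConcreteCategory.isIso_iff_bijective _).2 (h (U.ι ''ᵁ W) (U.ι_image_le W))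

/-- A module on `X` mapping to a direct image from `U`, bijectively below `U`, restricts to the module. -/
theorem nonempty_restrict_iso (U : X.Opens) {N : (U : Scheme.{u}).Modules} {L : X.Modules}
    (φ : L ⟶ (Scheme.Modules.pushforward U.ι).obj N)
    (h : ∀ W : X.Opens, W ≤ U → Function.Bijective (φ.app W)) : Nonempty (L.restrict U.ι ≅ N) := by
  haveI := isIso_restrict_of_bijective φ U h
  exact ⟨asIso ((Scheme.Modules.restrictFunctor U.ι).map φ) ≪≫
    (Scheme.Modules.restrictFunctorAdjCounitIso U.ι).app N⟩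

end Groth.Agent.Boundary
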