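import Groth.Agent.Boundary.Components
import Groth.Agent.DimOne.Basic
import Groth.Agent.H23.CocycleMod

/-! Invertible modules descend along maps which are closed immersions over a dense open of a curve. -/

noncomputable section

set_option linter.style.haveILetI false
set_option backward.isDefEq.respectTransparency false
set_option backward.isDefEq.respectTransparency.types false

universe u

open CategoryTheory CategoryTheory.Limits AlgebraicGeometry TopologicalSpace

namespace Groth.Agent.Boundary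

open Groth.Agent.AModX Groth.Agent.InvX Groth.Agent.DimOne

variable {X Y : Scheme.{u}}

theorem resR_app (f : X ⟶ Y) {V W : Y.Opens} (h : W ≤ V) (a : Γ(Y, V)) :
    resR (f.preimage_mono h) (f.app V a) = f.app W (resR h a) :=
  (ConcreteCategory.congr_hom (f.naturality (homOfLE h).op) a).symm

/-- Gluing functions on disjoint opens. -/
theorem exists_glue_disjoint {κ : Type u} (B : κ → Y.Opens) (hdis : ∀ i j, i ≠ j → B i ⊓ B j = ⊥)
    (a : ∀ i, Γ(Y, B i)) : ∃ s : Γ(Y, ⨆ i, B i), ∀ i, resR (le_iSup B i) s = a i := by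
  obtain ⟨s, hs, -⟩ := TopCat.Sheaf.existsUnique_gluing' Y.sheaf B (⨆ i, B i) (fun i => homOfLE (le_iSup B i))
    le_rfl a fun i j => by
      by_cases hij : i = j
      · subst hij; rfl
      · haveI : Subsingleton Γ(Y, B i ⊓ B j) := by rw [hdis i j hij]; infer_instance
        exact Subsingleton.elim (α := Γ(Y, B i ⊓ B j)) _ _
  exact ⟨s, hs⟩

/-- Gluing a section of a module on disjoint opens. -/
theorem exists_glue_disjoint' {κ : Type u} {M : Y.Modules} (B : κ → Y.Opens)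
    (hdis : ∀ i j, i ≠ j → B i ⊓ B j = ⊥) (a : ∀ i, Γ(M, B i)) :
    ∃ s : Γ(M, ⨆ i, B i), ∀ i, res M (le_iSup B i) s = a i := by
  obtain ⟨s, hs, -⟩ := existsUnique_glue (V := ⨆ i, B i) B (le_iSup B) (fun p hp => Opens.mem_iSup.1 hp) a
    fun i j => by
      by_cases hij : i = j
      · subst hij; rfl
      · exact (eq_zero_of_eq_bot (hdis i j hij) _).trans (eq_zero_of_eq_bot (hdis i j hij) _).symm
  exact ⟨s, hs⟩

theorem exists_pullback_iso [NoetherianSpace Y] (hdim : topologicalKrullDim Y ≤ 1) (f : X ⟶ Y) {U₀ : Y.Opens}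
    (hgen : ∀ c : Y, IsGen c → c ∈ U₀) (hf : IsClosedImmersion (f ∣_ U₀)) {L : X.Modules}
    (hframe : ∀ y : Y, ∃ (W : Y.Opens) (_ : y ∈ W) (e : Γ(L, f ⁻¹ᵁ W)), IsFrame e) :
    ∃ N : Y.Modules, PicF.IsInvertible N ∧ Nonempty ((Scheme.Modules.pullback f).obj N ≅ L) := by
  classical
  choose W hyW e he using hframe
  let Gn := {c : Y // IsGen c}
  haveI : Finite Gn := (finite_setOf_isGen (X := Y)).to_subtype
  -- disjoint affine neighbourhoods of the generic points
  have hA : ∀ c : Gn, ∃ A : Y.Opens, IsAffineOpen A ∧ c.1 ∈ A ∧ A ≤ U₀ ∧ A ≤ W c.1 ∧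
      (∀ y ∈ A, ∀ c' : Gn, c'.1 ⤳ y → c' = c) ∧ ((∀ x, f x ≠ c.1) → f ⁻¹ᵁ A = ⊥) := by
    intro c
    let O₁ : Y.Opens := ⟨(⋃ c' ∈ {c' : Gn | c' ≠ c}, closure ({c'.1} : Set Y))ᶜ,
      ((Set.toFinite _).isClosed_biUnion fun _ _ => isClosed_closure).isOpen_compl⟩
    have hcO₁ : c.1 ∈ O₁ := fun h => by
      obtain ⟨c', hne, hc'⟩ := Set.mem_iUnion₂.1 h
      exact hne (Subtype.ext (c.2 c'.1 (specializes_iff_mem_closure.2 hc')))
    let R : Y.Opens := U₀.ι ''ᵁ ⟨(Set.range (f ∣_ U₀))ᶜ, (f ∣_ U₀).isClosedEmbedding.isClosed_range.isOpen_compl⟩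
    let O₂ : Y.Opens := if (∀ x, f x ≠ c.1) then R else ⊤
    have hcO₂ : c.1 ∈ O₂ := by
      by_cases h : ∀ x, f x ≠ c.1
      · simp only [O₂, if_pos h]
        refine ⟨⟨c.1, hgen _ c.2⟩, fun ⟨z, hz⟩ => h z.1 ?_, rfl⟩
        have := congrArg U₀.ι hz
        rw [show U₀.ι ((f ∣_ U₀) z) = ((f ∣_ U₀) ≫ U₀.ι) z from rfl, morphismRestrict_ι] at this
        exact this
      · simp only [O₂, if_neg h]; trivial
    obtain ⟨A, hA, hcA, hle⟩ := exists_isAffineOpen_mem_and_subset (x := c.1)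
      (U := U₀ ⊓ W c.1 ⊓ O₁ ⊓ O₂) ⟨⟨⟨hgen _ c.2, hyW _⟩, hcO₁⟩, hcO₂⟩
    refine ⟨A, hA, hcA, fun y hy => (hle hy).1.1.1, fun y hy => (hle hy).1.1.2, fun y hy c' hc' => ?_,
      fun h => Opens.ext (Set.eq_empty_iff_forall_notMem.2 fun x hx => ?_)⟩
    · by_contra hne
      exact (hle hy).1.2 (Set.mem_iUnion₂.2 ⟨c', hne, hc'.mem_closure⟩)
    · have hx' : f x ∈ O₂ := (hle hx).2
      simp only [O₂, if_pos h] at hx'
      obtain ⟨w, hw, hwx⟩ := hx'
      refine hw ⟨⟨x, show f x ∈ U₀ from (hle hx).1.1.1⟩, U₀.ι.isOpenEmbedding.injective ?_⟩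
      show ((f ∣_ U₀) ≫ U₀.ι) _ = U₀.ι w
      rw [morphismRestrict_ι]
      exact hwx.symm
  choose A hAaff hcA hAU hAW hAonly hAbot using hA
  have hdis : ∀ c c' : Gn, c ≠ c' → A c ⊓ A c' = ⊥ := fun c c' hne =>
    Opens.ext (Set.eq_empty_iff_forall_notMem.2 fun y hy => by
      obtain ⟨g, hg, hgy⟩ := exists_isGen_specializes y
      exact hne ((hAonly c y hy.1 ⟨g, hg⟩ hgy).symm.trans (hAonly c' y hy.2 ⟨g, hg⟩ hgy)))
  let U : Y.Opens := ⨆ c, A c
  -- the frame over the union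
  obtain ⟨e₀, he₀⟩ : ∃ e₀ : Γ(L, f ⁻¹ᵁ U), ∀ c, res L (f.preimage_mono (le_iSup A c)) e₀ =
      res L (f.preimage_mono (hAW c)) (e c.1) := by
    obtain ⟨s, hs⟩ := exists_glue_disjoint' (M := L) (fun c => f ⁻¹ᵁ A c) (fun c c' hne => by
      rw [← Scheme.Hom.preimage_inf, hdis c c' hne, Scheme.Hom.preimage_bot])
      (fun c => res L (f.preimage_mono (hAW c)) (e c.1))
    have hle : f ⁻¹ᵁ U ≤ ⨆ c, f ⁻¹ᵁ A c := (f.preimage_iSup A).le
    exact ⟨res L hle s, fun c => by rw [res_res]; exact hs c⟩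
  have hfr₀ : IsFrame e₀ := H23.TrivBasic.isFrame_of_germwise fun x hx => by
    obtain ⟨c, hc⟩ := Opens.mem_iSup.1 (show f x ∈ U from hx)
    refine ⟨f ⁻¹ᵁ A c, f.preimage_mono (le_iSup A c), hc, ?_⟩
    rw [he₀]
    exact (he c.1).res _
  have hUD : ∀ y, y ∉ U → ¬ IsGen y := fun y hy hg => hy (Opens.mem_iSup.2 ⟨⟨y, hg⟩, hcA ⟨y, hg⟩⟩)
  have hDfin : ((U : Set Y)ᶜ).Finite := finite_of_forall_not_isGen hdim U.2.isClosed_compl hUD
  -- neighbourhoods of the boundary points with transition functions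
  let D := {y : Y // y ∉ U}
  have hV : ∀ d : D, ∃ (V : Y.Opens) (_ : d.1 ∈ V) (hVW : V ≤ W d.1) (t : (Γ(Y, V ⊓ U))ˣ),
      (∀ y ∈ V, y ∉ U → y = d.1) ∧
        res L (f.preimage_mono (inf_le_left.trans hVW : V ⊓ U ≤ W d.1)) (e d.1) =
          f.app (V ⊓ U) (t : Γ(Y, V ⊓ U)) • res L (f.preimage_mono (inf_le_right : V ⊓ U ≤ U)) e₀ := by
    intro d
    let V₀ : Y.Opens := W d.1 ⊓ ⟨((U : Set Y)ᶜ \ {d.1})ᶜ,
      isOpen_compl_of_forall_not_isGen hdim hDfin.sdiff fun y hy => hUD y hy.1⟩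
    have hdV₀ : d.1 ∈ V₀ := ⟨hyW _, fun h => h.2 rfl⟩
    have hB : ∀ c : Gn, ∃ (B : Y.Opens) (hBA : B ≤ A c) (hBV : B ≤ V₀) (g : (Γ(Y, B))ˣ), (c.1 ∈ V₀ → c.1 ∈ B) ∧
        res L (f.preimage_mono (hBV.trans inf_le_left : B ≤ W d.1)) (e d.1) =
          f.app B (g : Γ(Y, B)) • res L (f.preimage_mono (hBA.trans (le_iSup A c) : B ≤ U)) e₀ := by
      intro c
      by_cases hc : c.1 ∈ V₀
      swap
      · exact ⟨⊥, bot_le, bot_le, 1, fun h => absurd h hc,
          (eq_zero_of_eq_bot (Scheme.Hom.preimage_bot f) _).trans (eq_zero_of_eq_bot (Scheme.Hom.preimage_bot f) _).symm⟩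
      by_cases hcr : ∀ x, f x ≠ c.1
      · have hb : f ⁻¹ᵁ (V₀ ⊓ A c) = ⊥ := le_bot_iff.1 ((f.preimage_mono inf_le_right).trans (hAbot c hcr).le)
        exact ⟨V₀ ⊓ A c, inf_le_right, inf_le_left, 1, fun h => ⟨h, hcA c⟩,
          (eq_zero_of_eq_bot hb _).trans (eq_zero_of_eq_bot hb _).symm⟩
      obtain ⟨x, hx⟩ := not_forall.1 hcr
      rw [not_not] at hx
      obtain ⟨B, hB, hcB, hle⟩ := exists_isAffineOpen_mem_and_subset (x := c.1) (U := V₀ ⊓ A c) ⟨hc, hcA c⟩
      have hBV : B ≤ V₀ := fun y hy => (hle hy).1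
      have hBA : B ≤ A c := fun y hy => (hle hy).2
      have hsurj : Function.Surjective (f.app B) := by
        haveI := hf
        have hBaff : IsAffineOpen (U₀.ι ⁻¹ᵁ B) := by
          apply U₀.ι.isAffineOpen_iff_of_isOpenImmersion.1
          rw [Scheme.Hom.image_preimage_eq_opensRange_inf, Scheme.Opens.opensRange_ι,
            inf_eq_right.2 (hBA.trans (hAU c))]
          exact hB
        have h1 := (f ∣_ U₀).app_surjective _ hBaff
        rw [morphismRestrict_app] at h1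
        have h2 : Function.Surjective (f.app (U₀.ι ''ᵁ (U₀.ι ⁻¹ᵁ B))) := fun z => by
          obtain ⟨a, ha⟩ := h1 ((X.presheaf.map (eqToHom (image_morphismRestrict_preimage f U₀ (U₀.ι ⁻¹ᵁ B))).op) z)
          exact ⟨a, (ConcreteCategory.bijective_of_isIso
            (X.presheaf.map (eqToHom (image_morphismRestrict_preimage f U₀ (U₀.ι ⁻¹ᵁ B))).op)).1 ha⟩
        have hB' : U₀.ι ''ᵁ (U₀.ι ⁻¹ᵁ B) = B := by
          rw [Scheme.Hom.image_preimage_eq_opensRange_inf, Scheme.Opens.opensRange_ι,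
            inf_eq_right.2 (hBA.trans (hAU c))]
        exact hB' ▸ h2
      have hfe : IsFrame (res L (f.preimage_mono (hBA.trans (le_iSup A c) : B ≤ U)) e₀) := hfr₀.res _
      obtain ⟨r, hr⟩ := hfe.exists_coord le_rfl (res L (f.preimage_mono (hBV.trans inf_le_left : B ≤ W d.1)) (e d.1))
      rw [res_self] at hr
      obtain ⟨g, hg⟩ := hsurj r
      have hle' : Y.basicOpen g ≤ B := Y.basicOpen_le g
      refine ⟨Y.basicOpen g, hle'.trans hBA, hle'.trans hBV, (isUnit_resR hle' g le_rfl).unit, fun _ => ?_, ?_⟩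
      · have hfe' : IsFrame (res L (f.preimage_mono (hBV.trans inf_le_left : B ≤ W d.1)) (e d.1)) := (he d.1).res _
        obtain ⟨r', hr'⟩ := hfe'.exists_coord le_rfl (res L (f.preimage_mono (hBA.trans (le_iSup A c) : B ≤ U)) e₀)
        rw [res_self] at hr'
        have hu : IsUnit r := IsUnit.of_mul_eq_one r' (hfe.coord_unique le_rfl (by
          rw [res_self, one_smul, mul_comm, mul_smul, ← hr, ← hr']))
        rw [← hx]
        show x ∈ f ⁻¹ᵁ Y.basicOpen g
        rw [Scheme.preimage_basicOpen, hg, X.basicOpen_of_isUnit hu]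
        show f x ∈ B
        rw [hx]; exact hcB
      · have h1 := congrArg (res L (f.preimage_mono hle')) hr
        rw [res_smul, res_res, res_res, ← hg, resR_app] at h1
        exact h1
    choose B hBA hBV g hcB hg using hB
    have hBdis : ∀ c c', c ≠ c' → B c ⊓ B c' = ⊥ := fun c c' hne =>
      le_bot_iff.1 ((inf_le_inf (hBA c) (hBA c')).trans (hdis c c' hne).le)
    obtain ⟨t, ht⟩ := exists_glue_disjoint B hBdis fun c => (g c : Γ(Y, B c))
    obtain ⟨t', ht'⟩ := exists_glue_disjoint B hBdis fun c => ((g c)⁻¹ : (Γ(Y, B c))ˣ)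
    let P : Set Y := ((V₀ ⊓ U : Y.Opens) : Set Y) \ ⋃ c, (B c : Set Y)
    have hPgen : ∀ y ∈ P, ¬ IsGen y := fun y hy hg =>
      hy.2 (Set.mem_iUnion.2 ⟨⟨y, hg⟩, hcB ⟨y, hg⟩ hy.1.1⟩)
    have hPfin : P.Finite := by
      let B' : Gn → Y.Opens := fun c => if c.1 ∈ V₀ then B c else A c
      refine (finite_of_forall_not_isGen hdim (Z := (⋃ c, (B' c : Set Y))ᶜ)
        (isOpen_iUnion fun c => (B' c).2).isClosed_compl fun y hy hg => hy (Set.mem_iUnion.2 ⟨⟨y, hg⟩, ?_⟩)).subset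
        fun y hy => fun hy' => ?_
      · by_cases hc : y ∈ V₀
        · simp only [B', if_pos hc]; exact hcB ⟨y, hg⟩ hc
        · simp only [B', if_neg hc]; exact hcA ⟨y, hg⟩
      · obtain ⟨c, hc⟩ := Set.mem_iUnion.1 hy'
        by_cases hcV : c.1 ∈ V₀
        · simp only [B', if_pos hcV] at hc
          exact hy.2 (Set.mem_iUnion.2 ⟨c, hc⟩)
        · simp only [B', if_neg hcV] at hc
          obtain ⟨γ, hγ, hγy⟩ := exists_isGen_specializes y
          exact hcV ((hAonly c y hc ⟨γ, hγ⟩ hγy) ▸ hγy.mem_open V₀.2 hy.1.1)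
    let V : Y.Opens := V₀ ⊓ ⟨Pᶜ, isOpen_compl_of_forall_not_isGen hdim hPfin hPgen⟩
    have hle : V ⊓ U ≤ ⨆ c, B c := fun y hy => by
      by_contra hh
      exact hy.1.2 ⟨⟨hy.1.1, hy.2⟩, fun h => hh (Opens.mem_iSup.2 (Set.mem_iUnion.1 h))⟩
    have htt' : t * t' = 1 := eq_of_locally (M := Coh.structureModule Y) _ _ fun y hy => by
      obtain ⟨c, hc⟩ := Opens.mem_iSup.1 hy
      refine ⟨B c, le_iSup B c, hc, ?_⟩
      show resR _ (t * t') = resR _ 1
      rw [map_mul, map_one, ht, ht', Units.mul_inv]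
    refine ⟨V, ⟨hdV₀, fun h => d.2 h.1.2⟩, inf_le_left.trans inf_le_left,
      Units.map (resR hle).toMonoidHom (Units.mkOfMulEqOne t t' htt'), fun y hy hyU => ?_, ?_⟩
    · by_contra hne
      exact hy.1.2 ⟨hyU, hne⟩
    · refine eq_of_locally _ _ fun x hx => ?_
      obtain ⟨c, hc⟩ := Opens.mem_iSup.1 (hle (show f x ∈ V ⊓ U from hx))
      let T : Y.Opens := B c ⊓ (V ⊓ U)
      refine ⟨f ⁻¹ᵁ T, f.preimage_mono inf_le_right, ⟨hc, hx⟩, ?_⟩
      have h1 := congrArg (res L (f.preimage_mono (inf_le_left : T ≤ B c))) (hg c)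
      rw [res_smul, res_res, res_res, resR_app f (inf_le_left : T ≤ B c)] at h1
      rw [res_smul, res_res, res_res, resR_app f (inf_le_right : T ≤ V ⊓ U)]
      refine h1.trans ?_
      congr 2
      rw [← ht c, resR_resR]
      exact (resR_resR _ _ _).symm
  choose V hdV hVW t honly ht using hV
  -- the cocycle
  let O : Option D → Y.Opens := fun i => i.elim U V
  let u : ∀ i, (Γ(Y, O i ⊓ U))ˣ := fun i => match i with
    | none => 1
    | some d => t d
  have hov : ∀ i j, i ≠ j → O i ⊓ O j ≤ U := fun i j hij y hy => by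
    by_contra hyU
    match i, j, hy with
    | none, _, hy => exact hyU hy.1
    | some _, none, hy => exact hyU hy.2
    | some d, some d', hy =>
      exact hij (congrArg some (Subtype.ext ((honly d y hy.1 hyU).symm.trans (honly d' y hy.2 hyU))))
  let gg : ∀ i j, (Γ(Y, O i ⊓ O j))ˣ := fun i j => if h : i = j then 1 else
    Units.map (resR (le_inf inf_le_left (hov i j h) : O i ⊓ O j ≤ O i ⊓ U)).toMonoidHom (u i) *
      (Units.map (resR (le_inf inf_le_right (hov i j h) : O i ⊓ O j ≤ O j ⊓ U)).toMonoidHom (u j))⁻¹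
  have hgg : ∀ (i j : Option D) (T : Y.Opens) (hi : T ≤ O i) (hj : T ≤ O j) (hT : T ≤ U),
      resR (le_inf hi hj) (gg i j : Γ(Y, O i ⊓ O j)) * resR (le_inf hj hT) (u j : Γ(Y, O j ⊓ U)) =
        resR (le_inf hi hT) (u i : Γ(Y, O i ⊓ U)) := fun i j T hi hj hT => by
    by_cases h : i = j
    · subst h; simp [gg]
    · rw [show gg i j = _ from dif_neg h]
      rw [Units.val_mul, map_mul, mul_assoc]
      refine Eq.trans (congrArg (_ * ·) ?_) ((mul_one _).trans (resR_resR _ _ _))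
      rw [← resR_resR (le_inf inf_le_right (hov i j h) : O i ⊓ O j ≤ O j ⊓ U) (le_inf hi hj)
        (u j : Γ(Y, O j ⊓ U)), ← map_mul]
      refine Eq.trans (congrArg _ ?_) (map_one _)
      exact Units.inv_mul (Units.map (resR (le_inf inf_le_right (hov i j h) : O i ⊓ O j ≤ O j ⊓ U)).toMonoidHom (u j))
  let cyc : H23.CocycleMod.Cocycle O :=
    { g := gg
      trans := fun i j k T hi hj hk => by
        by_cases hij : i = j
        · subst hij; simp [gg]
        by_cases hjk : j = k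
        · subst hjk; simp [gg]
        have hT : T ≤ U := (le_inf hi hj).trans (hov i j hij)
        apply (((u k).isUnit.map (resR (le_inf hk hT))).mul_left_inj).1
        rw [hgg i k T hi hk hT, mul_right_comm, hgg j k T hj hk hT, mul_comm, hgg i j T hi hj hT] }
  let N := H23.CocycleMod.mod cyc
  have hcov : ∀ y, ∃ i, y ∈ O i := fun y => by
    by_cases hy : y ∈ U
    · exact ⟨none, hy⟩
    · exact ⟨some ⟨y, hy⟩, hdV ⟨y, hy⟩⟩
  have hN : PicF.IsInvertible N := H23.CocycleMod.isInvertible cyc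
    (eq_top_iff.2 fun y _ => Opens.mem_iSup.2 (hcov y))
  let fr : ∀ i, Γ(N, O i) := fun i => H23.CocycleMod.frame cyc i
  let n : ∀ i, Γ((Scheme.Modules.pushforward f).obj L, O i) := fun i => match i with
    | none => e₀
    | some d => res L (f.preimage_mono (hVW d)) (e d.1)
  have hn : ∀ (i : Option D) (T : Y.Opens) (hi : T ≤ O i) (hT : T ≤ U),
      res L (f.preimage_mono hi) (show Γ(L, f ⁻¹ᵁ O i) from n i) =
        f.app T (resR (le_inf hi hT) (u i : Γ(Y, O i ⊓ U))) • res L (f.preimage_mono hT) e₀ := fun i T hi hT => by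
    match i with
    | none =>
      show res L _ e₀ = f.app T (resR _ 1) • _
      rw [map_one, map_one, one_smul]
    | some d =>
      show res L (f.preimage_mono hi) (res L (f.preimage_mono (hVW d)) (e d.1)) = f.app T (resR _ (t d).val) • _
      have h1 := congrArg (res L (f.preimage_mono (le_inf hi hT : T ≤ V d ⊓ U))) (ht d)
      rw [res_res, res_smul, res_res, resR_app f (le_inf hi hT : T ≤ V d ⊓ U)] at h1
      exact (res_res _ _ _).trans h1
  have hrel : ∀ (a b : Option D) (T : Y.Opens) (ha : T ≤ O a) (hb : T ≤ O b) (r : Γ(Y, T)),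
      res N hb (fr b) = r • res N ha (fr a) →
        res ((Scheme.Modules.pushforward f).obj L) hb (n b) = r • res ((Scheme.Modules.pushforward f).obj L) ha (n a) := by
    intro a b T ha hb r hr
    have h0 := congrArg (res N (le_inf hb ha : T ≤ O b ⊓ O a)) (H23.CocycleMod.res_frame cyc b a)
    rw [res_smul, res_res, res_res] at h0
    have hr' : r = resR (le_inf hb ha) (gg b a : Γ(Y, O b ⊓ O a)) :=
      (H23.CocycleMod.isFrame_frame cyc a).coord_unique ha (hr.symm.trans h0)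
    rw [QCoh.pushforward_smul f T r]
    show res L (f.preimage_mono hb) _ = f.app T r • res L (f.preimage_mono ha) _
    by_cases hab : a = b
    · subst hab
      rw [hr']
      simp [gg]
    · have hT : T ≤ U := (le_inf ha hb).trans (hov a b hab)
      rw [hn b T hb hT, hn a T ha hT, smul_smul, ← map_mul, hr', hgg b a T hb ha hT]
  let φ : N ⟶ (Scheme.Modules.pushforward f).obj L := InvX.ofFrames hcov (H23.CocycleMod.isFrame_frame cyc) hrel
  let ψ := ((Scheme.Modules.pullbackPushforwardAdjunction f).homEquiv N L).symm φ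
  have hnf : ∀ i, IsFrame (M := L) (U := f ⁻¹ᵁ O i) (n i) := fun i => match i with
    | none => hfr₀
    | some d => (he d.1).res _
  refine ⟨N, hN, ?_⟩
  let Oi : ULift.{u} (Option D) → X.Opens := fun i => f ⁻¹ᵁ O i.down
  haveI : IsIso ψ := isIso_of_frames ψ Oi (fun x => let ⟨i, hi⟩ := hcov (f x); ⟨⟨i⟩, hi⟩)
    (fun i => pullElt f (fr i.down)) (fun i => isFrame_pullElt f (H23.CocycleMod.isFrame_frame cyc i.down)) fun i => by
      rw [pullback_adjunct_pullElt]
      show IsFrame (M := L) (φ.app (O i.down) (H23.CocycleMod.frame cyc i.down))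
      rw [InvX.ofFrames_app]
      exact hnf i.down
  exact ⟨asIso ψ⟩

end Groth.Agent.Boundary
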