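import Groth.Agent.Boundary.Extend
import Groth.Agent.IntNum.CurveAmple
import Groth.Agent.InvX.GenLocusPull
import Groth.Agent.CurveCohLib.SubBundle

/-! Proper schemes of dimension at most one carry ample invertible modules. -/

noncomputable section

set_option linter.style.haveILetI false
set_option backward.isDefEq.respectTransparency false
set_option backward.isDefEq.respectTransparency.types false

universe u

open CategoryTheory CategoryTheory.Limits AlgebraicGeometry TopologicalSpace

namespace Groth.Agent.Boundary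

variable (k : Type u) [Field k] {X : Scheme.{u}} [X.Over (Spec (CommRingCat.of k))]
  [IsProper (X ↘ Spec (CommRingCat.of k))]

include k in
theorem exists_isAmple (hdim : topologicalKrullDim X ≤ 1) : ∃ L : X.Modules, CohB1.IsAmple L := by
  classical
  haveI := CurveCohLib.isNoetherian_of_proper (k := k) (X := X)
  have hpt : ∀ C : irreducibleComponents (X : Type u), ∃ x ∈ C.1, IsClosed ({x} : Set X) := fun C =>
    IsClosed.exists_closed_singleton (isClosed_of_mem_irreducibleComponents C.1 C.2) C.2.1.nonempty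
  choose p hp hpc using hpt
  haveI : Finite (irreducibleComponents (X : Type u)) :=
    (NoetherianSpace.finite_irreducibleComponents (α := X)).to_subtype
  have hB : IsClosed (Set.range p) := by
    rw [show Set.range p = ⋃ C, {p C} from (Set.iUnion_singleton_eq_range p).symm]
    exact isClosed_iUnion_of_finite hpc
  let U : X.Opens := ⟨(Set.range p)ᶜ, hB.isOpen_compl⟩
  haveI : QuasiCompact U.ι := inferInstance
  have hdisc : DiscreteTopology ↥((U : Set X)ᶜ) := by
    rw [show ((U : Set X)ᶜ) = Set.range p from compl_compl _]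
    haveI : Finite ↥(Set.range p) := (Set.finite_range p).to_subtype
    haveI : T1Space ↥(Set.range p) := ⟨fun ⟨x, C, hC⟩ => by
      subst hC
      rw [show ({⟨p C, C, rfl⟩} : Set ↥(Set.range p)) = Subtype.val ⁻¹' {p C} from by
        ext b; simp [Subtype.ext_iff]]
      exact (hpc C).preimage continuous_subtype_val⟩
    infer_instance
  obtain ⟨L, s, hL, hs⟩ := exists_genLocus_eq U hdisc fun x _ =>
    ⟨inferInstance, (CurveCohLib.ringKrullDim_stalk_le_topologicalKrullDim x).trans hdim⟩
  refine ⟨L, IntNum.isAmple_of_deg_pos k hdim hL fun Z i _ _ hZ => ?_⟩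
  letI : Z.Over (Spec (CommRingCat.of k)) := ⟨i ≫ (X ↘ Spec (CommRingCat.of k))⟩
  haveI : IsProper (Z ↘ Spec (CommRingCat.of k)) :=
    show IsProper (i ≫ (X ↘ Spec (CommRingCat.of k))) from inferInstance
  let C : Set X := Set.range i
  have hirr : IsIrreducible C := by
    show IsIrreducible (Set.range i)
    rw [← Set.image_univ]
    exact (IrreducibleSpace.isIrreducible_univ Z).image _ i.continuous.continuousOn
  have hCd : topologicalKrullDim ↥C = 1 := by
    rw [← hZ]
    exact (IsHomeomorph.topologicalKrullDim_eq _ i.isClosedEmbedding.isEmbedding.toHomeomorph.isHomeomorph).symm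
  have hgc : ¬ IsClosed ({i (genericPoint Z)} : Set X) := fun h => by
    have he : C = {i (genericPoint Z)} := by
      refine (Set.Subset.antisymm ?_ (Set.singleton_subset_iff.2 ⟨_, rfl⟩))
      rintro _ ⟨z, rfl⟩
      exact ((genericPoint_specializes z).map i.continuous).mem_closed h rfl
    rw [he] at hCd
    haveI : Subsingleton ↥({i (genericPoint Z)} : Set X) := Set.subsingleton_singleton.coe_sort
    haveI : Nonempty ↥({i (genericPoint Z)} : Set X) := ⟨⟨_, rfl⟩⟩
    have h0 := topologicalKrullDim_zero_of_discreteTopology ↥({i (genericPoint Z)} : Set X)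
    rw [hCd] at h0
    exact absurd h0 (by decide)
  let e : Coh.structureModule Z ≅ (Scheme.Modules.pullback i).obj (Coh.structureModule X) := (CurveBC.unitIso i).symm
  let σ := e.hom ≫ (Scheme.Modules.pullback i).map s
  have hgl : CohB1.genLocus ((Scheme.Modules.pullback i).obj L) σ = i ⁻¹ᵁ U := by
    rw [InvX.genLocus_pullback i hL s e, hs]
  have hgen : genericPoint Z ∈ i ⁻¹ᵁ U := fun ⟨C', hC'⟩ => hgc (hC' ▸ hpc C')
  obtain ⟨z, hz⟩ : ∃ z : Z, z ∉ i ⁻¹ᵁ U := by
    obtain ⟨T, h1, h2, h3⟩ := exists_preirreducible _ hirr.isPreirreducible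
    have hT : T ∈ irreducibleComponents (X : Type u) :=
      ⟨⟨hirr.nonempty.mono h2, h1⟩, fun T' hT' hle => (h3 T' hT'.isPreirreducible hle).le⟩
    have hTC : T = C := by
      have hTc := isClosed_of_mem_irreducibleComponents T hT
      obtain ⟨η, hη⟩ := QuasiSober.sober hT.1 hTc
      have hsp : η ⤳ i (genericPoint Z) := hη.specializes (h2 ⟨_, rfl⟩)
      by_cases he : η = i (genericPoint Z)
      · refine Set.Subset.antisymm ?_ h2
        rw [← hη.def, he]
        exact i.isClosedEmbedding.isClosed_range.closure_subset_iff.2 (Set.singleton_subset_iff.2 ⟨_, rfl⟩)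
      · exact absurd (CurvePsi.isClosed_of_dim_le_one hdim hsp fun h => he h.symm) hgc
    obtain ⟨z, hz⟩ : p ⟨T, hT⟩ ∈ C := hTC.le (hp ⟨T, hT⟩)
    exact ⟨z, fun hmem => hmem ⟨⟨T, hT⟩, hz.symm⟩⟩
  have hσ : σ ≠ 0 := fun h0 => by
    have h1 : genericPoint Z ∈ CohB1.genLocus ((Scheme.Modules.pullback i).obj L) σ := hgl.ge hgen
    obtain ⟨W, hW, hgW⟩ := InvX.mem_genLocus h1
    rw [h0] at hgW
    have h2 := (hgW W le_rfl).1
    have h3 : InvX.one (0 : Coh.structureModule Z ⟶ (Scheme.Modules.pullback i).obj L) = 0 := rfl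
    haveI : Nonempty W := ⟨⟨_, hW⟩⟩
    exact one_ne_zero (@h2 (1 : Γ(Z, W)) 0 (by simp [h3]))
  have hLZ := PicClLib.isInvertible_pullback i hL
  have hdimZ : topologicalKrullDim Z ≤ 1 := hZ.le
  obtain ⟨h1, h2⟩ := CurveDeg.deg_le_and_isIso k hdimZ CurveDeg.isInvertible_structureModule hLZ σ hσ
  rw [CurveDeg.deg_structureModule] at h1 h2
  refine lt_of_le_of_ne h1 fun he => hz ?_
  haveI := h2 he
  rw [← hgl]
  have htop : (⊤ : Z.Opens) ≤ CohB1.genLocus ((Scheme.Modules.pullback i).obj L) σ :=
    le_sSup (show IsIso ((Scheme.Modules.restrictFunctor (⊤ : Z.Opens).ι).map σ) from inferInstance)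
  exact htop trivial

end Groth.Agent.Boundary
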