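import Groth.Agent.Boundary.Local

/-! Line bundles with a prescribed non-vanishing locus, and extension of line bundles. -/

noncomputable section

set_option linter.style.haveILetI false
set_option backward.isDefEq.respectTransparency false
set_option backward.isDefEq.respectTransparency.types false

universe u

open CategoryTheory CategoryTheory.Limits AlgebraicGeometry TopologicalSpace

namespace Groth.Agent.Boundary

open Groth.Agent.AModX Groth.Agent.InvX

variable {X : Scheme.{u}} (U : X.Opens) [QuasiCompact U.ι]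

/-- A line bundle with a section whose generating locus is the given open. -/
theorem exists_genLocus_eq (hdisc : DiscreteTopology ↥((U : Set X)ᶜ))
    (hloc : ∀ x : X, x ∉ U → IsNoetherianRing (X.presheaf.stalk x) ∧ ringKrullDim (X.presheaf.stalk x) ≤ 1) :
    ∃ (L : X.Modules) (s : Coh.structureModule X ⟶ L), PicF.IsInvertible L ∧ CohB1.genLocus L s = U := by
  classical
  choose Vb ab hVb hxVb hab honly using fun x : ↥((U : Set X)ᶜ) => exists_local_equation U hdisc x.2 (hloc x.1 x.2)
  let M := (Scheme.Modules.pushforward U.ι).obj (Coh.structureModule (U : Scheme.{u}))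
  let V : Option ↥((U : Set X)ᶜ) → X.Opens := fun i => i.elim U Vb
  let c : ∀ i, Γ(X, V i) := fun i => match i with
    | none => 1
    | some x => ab x
  have hc : ∀ i, X.basicOpen (c i) = U ⊓ V i := fun i => match i with
    | none => (X.basicOpen_of_isUnit isUnit_one).trans (inf_idem (a := U)).symm
    | some x => hab x
  have hcov : ∀ p, ∃ i, p ∈ V i := fun p => if h : p ∈ U then ⟨none, h⟩ else ⟨some ⟨p, h⟩, hxVb ⟨p, h⟩⟩
  have hov : ∀ i j, i ≠ j → V i ⊓ V j ≤ U := fun i j hij p hp => by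
    by_contra hpU
    match i, j with
    | none, _ => exact hpU hp.1
    | some x, none => exact hpU hp.2
    | some x, some y => exact hij (congrArg some (Subtype.ext ((honly x p hp.1 hpU).symm.trans (honly y p hp.2 hpU))))
  let one' : ∀ W : X.Opens, Γ(M, W) := fun W => (1 : Γ((U : Scheme.{u}), U.ι ⁻¹ᵁ W))
  have hone : ∀ W : X.Opens, W ≤ U → IsFrame (one' W) := fun W hW =>
    isFrame_push U _ hW _ (InvX.isFrame_one _)
  have hres : ∀ {W W' : X.Opens} (h : W' ≤ W), res M h (one' W) = one' W' := fun h => map_one (resR _)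
  have hu : ∀ i, IsUnit (U.ι.app (V i) (c i)) := fun i => by
    refine (U : Scheme.{u}).toRingedSpace.isUnit_of_isUnit_germ _ _ fun z hz => ?_
    refine ((U : Scheme.{u}).mem_basicOpen _ z hz).1 ?_
    rw [← Scheme.preimage_basicOpen]
    exact (hc i).ge ⟨z.2, hz⟩
  choose u hu using hu
  let e : ∀ i, Γ(M, V i) := fun i => ((↑(u i)⁻¹ : Γ((U : Scheme.{u}), U.ι ⁻¹ᵁ V i)))
  have hce : ∀ i, c i • e i = one' (V i) := fun i => by
    refine (QCoh.pushforward_smul U.ι (V i) (c i) (e i)).trans ?_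
    show U.ι.app (V i) (c i) * (↑(u i)⁻¹ : Γ((U : Scheme.{u}), U.ι ⁻¹ᵁ V i)) = 1
    rw [← hu i, Units.mul_inv]
  have he : ∀ i, IsFrame (res M (inf_le_left : V i ⊓ U ≤ V i) (e i)) := fun i => by
    obtain ⟨r, hr⟩ := (hone _ inf_le_right).exists_coord le_rfl (res M (inf_le_left : V i ⊓ U ≤ V i) (e i))
    rw [res_self] at hr
    rw [hr]
    refine (hone _ inf_le_right).isUnit_smul (IsUnit.of_mul_eq_one (resR inf_le_left (c i)) ?_)
    refine (hone _ (inf_le_right : V i ⊓ U ≤ U)).coord_unique le_rfl ?_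
    rw [res_self, mul_comm, mul_smul, ← hr, one_smul, ← res_smul, hce, hres]
  obtain ⟨L, φ, f, hL, hf, hφ, hbij⟩ := exists_glue M U V hcov hov e he
  obtain ⟨T, hT, -⟩ := existsUnique_glue (M := L) (V := ⊤) V (fun _ => le_top) (fun p _ => hcov p)
    (fun i => c i • f i) fun i j => by
      by_cases hij : i = j
      · subst hij; rfl
      · refine (hbij _ (hov i j hij)).1 ?_
        have key : ∀ k (h : V i ⊓ V j ≤ V k), φ.app _ (res L h (c k • f k)) = one' (V i ⊓ V j) := fun k h => by
          rw [app_res, Scheme.Modules.Hom.app_smul, hφ, hce, hres]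
        rw [key i inf_le_left, key j inf_le_right]
  refine ⟨L, ofSect T, hL, ?_⟩
  ext p
  obtain ⟨i, hi⟩ := hcov p
  have h := genLocus_inf (ofSect T) (hf i) (g := c i) (by rw [one_ofSect]; exact hT i)
  rw [hc i] at h
  exact ⟨fun hp => (h.le ⟨hp, hi⟩).1, fun hp => (h.ge ⟨hp, hi⟩).1⟩

/-- Invertible modules extend across the boundary. -/
theorem exists_extension (hdisc : DiscreteTopology ↥((U : Set X)ᶜ))
    (hloc : ∀ x : X, x ∉ U → IsNoetherianRing (X.presheaf.stalk x) ∧ ringKrullDim (X.presheaf.stalk x) ≤ 1)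
    {N : (U : Scheme.{u}).Modules} (hN : PicF.IsInvertible N) :
    ∃ L : X.Modules, PicF.IsInvertible L ∧ Nonempty (L.restrict U.ι ≅ N) := by
  classical
  choose Vb eb hxVb hfb honly using fun x : ↥((U : Set X)ᶜ) => exists_frame_near U hdisc x.2 (hloc x.1 x.2) hN
  choose O hzO s hs using fun z : (U : Scheme.{u}) => InvX.exists_frame hN z
  let V : (U : Scheme.{u}) ⊕ ↥((U : Set X)ᶜ) → X.Opens := Sum.elim (fun z => U.ι ''ᵁ O z) Vb
  let e : ∀ i, Γ((Scheme.Modules.pushforward U.ι).obj N, V i) := fun i => match i with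
    | .inl z => res N (U.ι.preimage_image_eq (O z)).le (s z)
    | .inr x => eb x
  have he : ∀ i, IsFrame (res _ (inf_le_left : V i ⊓ U ≤ V i) (e i)) := fun i => match i with
    | .inl z => (isFrame_push U N (U.ι_image_le (O z)) _ ((hs z).res (U.ι.preimage_image_eq (O z)).le)).res _
    | .inr x => hfb x
  have hcov : ∀ p, ∃ i, p ∈ V i := fun p =>
    if h : p ∈ U then ⟨.inl ⟨p, h⟩, ⟨⟨p, h⟩, hzO _, rfl⟩⟩ else ⟨.inr ⟨p, h⟩, hxVb ⟨p, h⟩⟩
  have hov : ∀ i j, i ≠ j → V i ⊓ V j ≤ U := fun i j hij p hp => by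
    by_contra hpU
    match i, j with
    | .inl z, _ => exact hpU (U.ι_image_le (O z) hp.1)
    | .inr x, .inl z => exact hpU (U.ι_image_le (O z) hp.2)
    | .inr x, .inr y => exact hij (congrArg Sum.inr (Subtype.ext ((honly x p hp.1 hpU).symm.trans (honly y p hp.2 hpU))))
  obtain ⟨L, φ, f, hL, -, -, hbij⟩ := exists_glue _ U V hcov hov e he
  exact ⟨L, hL, nonempty_restrict_iso U φ hbij⟩

end Groth.Agent.Boundary
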