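import Groth.Agent.Boundary.Glue
import Groth.Agent.AssPtX.Basic
import Groth.Agent.InvUfdLib.Semilocal
import Mathlib.RingTheory.KrullDimension.Basic
import Mathlib.RingTheory.Ideal.MinimalPrime.Noetherian

/-! Local structure near an isolated boundary point with a one-dimensional local ring. -/

noncomputable section

set_option linter.style.haveILetI false
set_option backward.isDefEq.respectTransparency false
set_option backward.isDefEq.respectTransparency.types false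

universe u

open CategoryTheory CategoryTheory.Limits AlgebraicGeometry TopologicalSpace

namespace Groth.Agent.Boundary

/-- In a noetherian local ring of dimension at most one the other primes are minimal. -/
theorem mem_minimalPrimes_of_ne {R : Type u} [CommRing R] [IsLocalRing R] (hd : ringKrullDim R ≤ 1)
    {q : Ideal R} [q.IsPrime] (hq : q ≠ IsLocalRing.maximalIdeal R) : q ∈ minimalPrimes R := by
  refine ⟨⟨inferInstance, bot_le⟩, fun p hp hle => ?_⟩
  haveI := hp.1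
  by_contra h
  have h1 : (⟨p, inferInstance⟩ : PrimeSpectrum R) < ⟨q, inferInstance⟩ := lt_of_le_not_ge hle h
  have h2 : (⟨q, inferInstance⟩ : PrimeSpectrum R) < IsLocalRing.closedPoint R :=
    lt_of_le_of_ne (IsLocalRing.le_maximalIdeal (Ideal.IsPrime.ne_top inferInstance)) fun e =>
      hq (congrArg PrimeSpectrum.asIdeal e)
  let c : LTSeries (PrimeSpectrum R) :=
    ((RelSeries.singleton _ (⟨p, inferInstance⟩ : PrimeSpectrum R)).snoc ⟨q, inferInstance⟩ h1).snoc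
      (IsLocalRing.closedPoint R) (by rw [RelSeries.last_snoc]; exact h2)
  have h3 : ((c.length : ℕ) : WithBot ℕ∞) ≤ 1 := le_trans (Order.LTSeries.length_le_krullDim c) hd
  have h4 : c.length = 2 := rfl
  rw [h4] at h3
  exact absurd h3 (by decide)

/-- A parameter in a noetherian local ring of dimension at most one. -/
theorem exists_parameter {R : Type u} [CommRing R] [IsLocalRing R] [IsNoetherianRing R]
    (hd : ringKrullDim R ≤ 1) : ∃ a ∈ IsLocalRing.maximalIdeal R,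
      ∀ q : Ideal R, q.IsPrime → a ∈ q → q = IsLocalRing.maximalIdeal R := by
  classical
  have hfin : (minimalPrimes R \ {IsLocalRing.maximalIdeal R}).Finite :=
    (minimalPrimes.finite_of_isNoetherianRing R).sdiff
  have hne : ¬ ((IsLocalRing.maximalIdeal R : Set R) ⊆ ⋃ q ∈ (hfin.toFinset : Set (Ideal R)), (q : Set R)) := by
    intro h
    obtain ⟨q, hq, hle⟩ := (Ideal.subset_union_prime (f := fun q : Ideal R => q) ⊥ ⊥
      fun q hq _ _ => (hfin.mem_toFinset.1 hq).1.1.1).1 h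
    rw [Set.Finite.mem_toFinset] at hq
    exact hq.2 ((IsLocalRing.maximalIdeal.isMaximal R).eq_of_le hq.1.1.1.ne_top hle).symm
  obtain ⟨a, ha, hna⟩ := Set.not_subset.1 hne
  refine ⟨a, ha, fun q hq haq => by_contra fun hqne => hna (Set.mem_iUnion₂.2 ⟨q, ?_, haq⟩)⟩
  haveI := hq
  exact hfin.mem_toFinset.2 ⟨mem_minimalPrimes_of_ne hd hqne, hqne⟩

/-- Containment at the generizations of a prime spreads out. -/
theorem exists_mul_pow_mem {A : Type u} [CommRing A] (p : Ideal A) [p.IsPrime] (I : Ideal A) (a : A)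
    (h : ∀ Q : Ideal A, Q.IsPrime → Q ≤ p → I ≤ Q → a ∈ Q) : ∃ (t : A) (n : ℕ), t ∉ p ∧ t * a ^ n ∈ I := by
  let R := Localization.AtPrime p
  have hrad : algebraMap A R a ∈ (I.map (algebraMap A R)).radical := by
    rw [Ideal.radical_eq_sInf]
    refine Submodule.mem_sInf.2 fun q ⟨hIq, hq⟩ => ?_
    haveI := hq
    refine h (Ideal.comap (algebraMap A R) q) (Ideal.comap_isPrime (algebraMap A R) q) ?_ (Ideal.map_le_iff_le_comap.1 hIq)
    intro x hx
    by_contra hxp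
    exact hq.ne_top (Ideal.eq_top_of_isUnit_mem _ hx (IsLocalization.map_units R (⟨x, hxp⟩ : p.primeCompl)))
  obtain ⟨n, hn⟩ := hrad
  rw [← map_pow, IsLocalization.algebraMap_mem_map_algebraMap_iff p.primeCompl] at hn
  obtain ⟨t, ht, hmem⟩ := hn
  exact ⟨t, n, ht, hmem⟩

variable {X : Scheme.{u}} (U : X.Opens)

/-- An affine neighbourhood of a boundary point in which the boundary is cut out by one function. -/
theorem exists_local_equation [QuasiCompact U.ι] (hdisc : DiscreteTopology ↥((U : Set X)ᶜ)) {x : X} (hx : x ∉ U)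
    (hloc : IsNoetherianRing (X.presheaf.stalk x) ∧ ringKrullDim (X.presheaf.stalk x) ≤ 1) :
    ∃ (V : X.Opens) (a : Γ(X, V)), IsAffineOpen V ∧ x ∈ V ∧ X.basicOpen a = U ⊓ V ∧
      ∀ y ∈ V, y ∉ U → y = x := by
  classical
  haveI := hdisc
  obtain ⟨O, hO, hOx⟩ : ∃ O : Set X, IsOpen O ∧ Subtype.val ⁻¹' O = ({⟨x, hx⟩} : Set ↥((U : Set X)ᶜ)) :=
    isOpen_induced_iff.1 (isOpen_discrete _)
  obtain ⟨V₀, hV₀, hxV₀, hle⟩ := exists_isAffineOpen_mem_and_subset (X := X) (x := x) (U := ⟨O, hO⟩)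
    (show x ∈ O from (Set.ext_iff.1 hOx ⟨x, hx⟩).2 rfl)
  have honly : ∀ y ∈ V₀, y ∉ U → y = x := fun y hy hyU =>
    congrArg Subtype.val ((Set.ext_iff.1 hOx ⟨y, hyU⟩).1 (hle hy))
  have hc : IsCompact ((V₀ ⊓ U : X.Opens) : Set X) := by
    have h := (U.ι.isCompact_preimage hV₀.isCompact).image U.ι.continuous
    rwa [Scheme.Hom.coe_preimage, Set.image_preimage_eq_inter_range, Scheme.Opens.range_ι] at h
  choose! g hgle hg using fun y (hy : y ∈ (V₀ ⊓ U : X.Opens)) =>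
    hV₀.exists_basicOpen_le (V := U) ⟨y, hy.2⟩ hy.1
  obtain ⟨s, hsub, hs, hcov⟩ := hc.elim_finite_subcover_image (b := ((V₀ ⊓ U : X.Opens) : Set X))
    (c := fun y => (X.basicOpen (g y) : Set X)) (fun y _ => (X.basicOpen (g y)).2)
    fun y hy => Set.mem_biUnion hy (hg y hy)
  set p := (hV₀.primeIdealOf ⟨x, hxV₀⟩).asIdeal with hp
  letI : Algebra Γ(X, V₀) (X.presheaf.stalk x) := X.presheaf.algebra_section_stalk (⟨x, hxV₀⟩ : V₀)
  haveI hloc' : IsLocalization.AtPrime (X.presheaf.stalk x) p := hV₀.isLocalization_stalk ⟨x, hxV₀⟩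
  haveI := hloc.1
  obtain ⟨a₀, ha₀, hprime⟩ := exists_parameter hloc.2
  obtain ⟨⟨a', c⟩, hac⟩ := IsLocalization.surj p.primeCompl a₀
  have ha'p : a' ∈ p := by
    rw [← IsLocalization.AtPrime.under_maximalIdeal (X.presheaf.stalk x) p, Ideal.under_def, Ideal.mem_comap]
    change a₀ * _ = algebraMap _ _ a' at hac
    rw [← hac]
    exact Ideal.mul_mem_right _ _ ha₀
  have hunique : ∀ Q : Ideal Γ(X, V₀), Q.IsPrime → Q ≤ p → a' ∈ Q → Q = p := by
    intro Q hQ hQp ha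
    have hdis : Disjoint (p.primeCompl : Set Γ(X, V₀)) (Q : Set Γ(X, V₀)) :=
      Set.disjoint_left.2 fun z hz hzQ => hz (hQp hzQ)
    haveI := IsLocalization.isPrime_of_isPrime_disjoint p.primeCompl (X.presheaf.stalk x) Q hQ hdis
    have h1 : a₀ ∈ Q.map (algebraMap Γ(X, V₀) (X.presheaf.stalk x)) := by
      have h2 : algebraMap _ (X.presheaf.stalk x) a' ∈ Q.map (algebraMap Γ(X, V₀) (X.presheaf.stalk x)) :=
        Ideal.mem_map_of_mem _ ha
      change a₀ * _ = algebraMap _ _ a' at hac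
      rw [← hac] at h2
      exact (Ideal.IsPrime.mem_or_mem inferInstance h2).resolve_right fun hm =>
        Ideal.IsPrime.ne_top inferInstance (Ideal.eq_top_of_isUnit_mem _ hm (IsLocalization.map_units _ c))
    have h3 := congrArg (Ideal.under Γ(X, V₀)) (hprime _ inferInstance h1)
    rw [IsLocalization.AtPrime.under_maximalIdeal (X.presheaf.stalk x) p] at h3
    rw [← h3]
    exact (IsLocalization.under_map_of_isPrime_disjoint p.primeCompl (X.presheaf.stalk x) hQ hdis).symm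
  let I : Ideal Γ(X, V₀) := Ideal.span (g '' s)
  have hIp : I ≤ p := Ideal.span_le.2 fun _ ⟨y, hy, hgy⟩ => hgy ▸ by
    by_contra hh
    exact hx (hgle y (hsub hy) ((QCoh.mem_basicOpen_iff_notMem hV₀ hxV₀ (g y)).2 hh))
  have hIprime : ∀ Q : Ideal Γ(X, V₀), Q.IsPrime → Q ≤ p → I ≤ Q → Q = p := by
    intro Q hQ hQp hIQ
    obtain ⟨y, hy⟩ : ∃ y : V₀, (hV₀.primeIdealOf y).asIdeal = Q := by
      let P : PrimeSpectrum Γ(X, V₀) := ⟨Q, hQ⟩
      have hr : hV₀.fromSpec P ∈ V₀ := hV₀.range_fromSpec.le ⟨P, rfl⟩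
      have hP : hV₀.primeIdealOf ⟨_, hr⟩ = P :=
        hV₀.fromSpec.isOpenEmbedding.injective (hV₀.fromSpec_primeIdealOf ⟨_, hr⟩)
      exact ⟨⟨_, hr⟩, congrArg (fun P : PrimeSpectrum Γ(X, V₀) => P.asIdeal) hP⟩
    subst hy
    by_cases hyU : (y : X) ∈ U
    · obtain ⟨z, hz, hyz⟩ := Set.mem_iUnion₂.1 (hcov (show (y : X) ∈ ((V₀ ⊓ U : X.Opens) : Set X) from ⟨y.2, hyU⟩))
      exact absurd (hIQ (Ideal.subset_span ⟨z, hz, rfl⟩)) ((QCoh.mem_basicOpen_iff_notMem hV₀ y.2 (g z)).1 hyz)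
    · have : y = (⟨x, hxV₀⟩ : V₀) := Subtype.ext (honly y y.2 hyU)
      subst this
      rfl
  obtain ⟨t₁, n₁, ht₁, hmem₁⟩ := exists_mul_pow_mem p I a' fun Q hQ hQp hIQ => by
    rw [hIprime Q hQ hQp hIQ]; exact ha'p
  have hex : ∀ y ∈ s, ∃ (t : Γ(X, V₀)) (n : ℕ), t ∉ p ∧ t * g y ^ n ∈ Ideal.span {a'} := fun y hy =>
    exists_mul_pow_mem p (Ideal.span {a'}) (g y) fun Q hQ hQp haQ => by
      rw [hunique Q hQ hQp (haQ (Ideal.mem_span_singleton_self a'))]
      exact hIp (Ideal.subset_span ⟨y, hy, rfl⟩)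
  choose! t n ht hmem using hex
  let T := t₁ * ∏ y ∈ hs.toFinset, t y
  have hT : T ∉ p := fun h => ((inferInstance : p.IsPrime).mem_or_mem h).elim ht₁ fun h' => by
    obtain ⟨y, hy, hyp⟩ := (inferInstance : p.IsPrime).prod_mem_iff.1 h'
    exact ht y (hs.mem_toFinset.1 hy) hyp
  refine ⟨X.basicOpen T, AModX.resR (X.basicOpen_le T) a', hV₀.basicOpen T,
    (QCoh.mem_basicOpen_iff_notMem hV₀ hxV₀ T).2 hT, ?_,
    fun y hy hyU => honly y (X.basicOpen_le T hy) hyU⟩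
  rw [show X.basicOpen (AModX.resR (X.basicOpen_le T) a') = X.basicOpen T ⊓ X.basicOpen a' from
    X.basicOpen_res a' (homOfLE (X.basicOpen_le T)).op]
  ext y
  constructor
  · rintro ⟨hyT, hya⟩
    refine ⟨?_, hyT⟩
    have hy := X.basicOpen_le T hyT
    set Q := (hV₀.primeIdealOf ⟨y, hy⟩).asIdeal
    have hTQ : T ∉ Q := (QCoh.mem_basicOpen_iff_notMem hV₀ hy T).1 hyT
    have haQ : a' ∉ Q := (QCoh.mem_basicOpen_iff_notMem hV₀ hy a').1 hya
    by_contra hyU
    have : y = x := honly y hy hyU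
    subst this
    exact haQ ha'p
  · rintro ⟨hyU, hyT⟩
    refine ⟨hyT, ?_⟩
    have hy := X.basicOpen_le T hyT
    have hTQ := (QCoh.mem_basicOpen_iff_notMem hV₀ hy T).1 hyT
    refine (QCoh.mem_basicOpen_iff_notMem hV₀ hy a').2 fun haQ => ?_
    obtain ⟨z, hz, hyz⟩ := Set.mem_iUnion₂.1 (hcov (show y ∈ ((V₀ ⊓ U : X.Opens) : Set X) from ⟨hy, hyU⟩))
    have hgQ := (QCoh.mem_basicOpen_iff_notMem hV₀ hy (g z)).1 hyz
    have hm := (Ideal.span_singleton_le_iff_mem _).2 haQ (hmem z hz)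
    rcases (Ideal.IsPrime.mem_or_mem inferInstance hm) with h | h
    · refine hTQ (Ideal.mul_mem_left _ _ ?_)
      rw [← Finset.mul_prod_erase _ _ (hs.mem_toFinset.2 hz)]
      exact Ideal.mul_mem_right _ _ h
    · exact hgQ (Ideal.IsPrime.mem_of_pow_mem inferInstance _ h)

/-- An invertible module on the interior is trivial near a boundary point. -/
theorem exists_frame_near [QuasiCompact U.ι] (hdisc : DiscreteTopology ↥((U : Set X)ᶜ)) {x : X} (hx : x ∉ U)
    (hloc : IsNoetherianRing (X.presheaf.stalk x) ∧ ringKrullDim (X.presheaf.stalk x) ≤ 1)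
    {N : (U : Scheme.{u}).Modules} (hN : PicF.IsInvertible N) :
    ∃ (V : X.Opens) (e : Γ((Scheme.Modules.pushforward U.ι).obj N, V)), x ∈ V ∧
      InvX.IsFrame (AModX.res _ (inf_le_left : V ⊓ U ≤ V) e) ∧ ∀ y ∈ V, y ∉ U → y = x := by
  classical
  obtain ⟨V₀, a, hV₀, hxV₀, ha, honly⟩ := exists_local_equation U hdisc hx hloc
  have hDU : X.basicOpen a ≤ U := ha ▸ inf_le_left
  have hDV : X.basicOpen a ≤ V₀ := X.basicOpen_le a
  set p := (hV₀.primeIdealOf ⟨x, hxV₀⟩).asIdeal with hp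
  letI : Algebra Γ(X, V₀) (X.presheaf.stalk x) := X.presheaf.algebra_section_stalk (⟨x, hxV₀⟩ : V₀)
  haveI hloc' : IsLocalization.AtPrime (X.presheaf.stalk x) p := hV₀.isLocalization_stalk ⟨x, hxV₀⟩
  haveI := hloc.1
  let F : Set X := {y | y ∈ X.basicOpen a ∧ y ⤳ x}
  have key : ∀ y (hy : y ∈ F), ∃ q ∈ minimalPrimes (X.presheaf.stalk x),
      q.under Γ(X, V₀) = (hV₀.primeIdealOf ⟨y, hDV hy.1⟩).asIdeal := by
    intro y hy
    set Q := (hV₀.primeIdealOf ⟨y, hDV hy.1⟩).asIdeal with hQ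
    have hQp : Q ≤ p := (AssPtX.primeIdealOf_le_iff hV₀ (hDV hy.1) hxV₀).2 hy.2
    have hdis : Disjoint (p.primeCompl : Set Γ(X, V₀)) (Q : Set Γ(X, V₀)) :=
      Set.disjoint_left.2 fun z hz hzQ => hz (hQp hzQ)
    haveI := IsLocalization.isPrime_of_isPrime_disjoint p.primeCompl (X.presheaf.stalk x) Q inferInstance hdis
    have hu := IsLocalization.under_map_of_isPrime_disjoint p.primeCompl (X.presheaf.stalk x)
      (inferInstance : Q.IsPrime) hdis
    refine ⟨_, mem_minimalPrimes_of_ne hloc.2 (fun he => ?_), hu⟩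
    rw [he, IsLocalization.AtPrime.under_maximalIdeal (X.presheaf.stalk x) p] at hu
    have hyx : y = x := congrArg Subtype.val (show (⟨y, hDV hy.1⟩ : V₀) = ⟨x, hxV₀⟩ from by
      have h2 : hV₀.primeIdealOf ⟨x, hxV₀⟩ = hV₀.primeIdealOf ⟨y, hDV hy.1⟩ := PrimeSpectrum.ext hu
      have h3 := congrArg hV₀.fromSpec h2
      rw [hV₀.fromSpec_primeIdealOf, hV₀.fromSpec_primeIdealOf] at h3
      exact Subtype.ext h3.symm)
    exact hx (hyx ▸ hDU hy.1)
  choose! q hq hqQ using key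
  have hinj : ∀ y (hy : y ∈ F) y' (hy' : y' ∈ F), q y ≤ q y' → y = y' := fun y hy y' hy' h => by
    have h1 : q y = q y' := le_antisymm h ((hq y' hy').2 ⟨(hq y hy).1.1, bot_le⟩ h)
    have h2 : hV₀.primeIdealOf ⟨y, hDV hy.1⟩ = hV₀.primeIdealOf ⟨y', hDV hy'.1⟩ :=
      PrimeSpectrum.ext ((hqQ y hy).symm.trans ((congrArg (Ideal.under Γ(X, V₀)) h1).trans (hqQ y' hy')))
    have h3 := congrArg hV₀.fromSpec h2
    rw [hV₀.fromSpec_primeIdealOf, hV₀.fromSpec_primeIdealOf] at h3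
    exact h3
  have hF : F.Finite := Set.Finite.of_finite_image
    ((minimalPrimes.finite_of_isNoetherianRing (X.presheaf.stalk x)).subset (Set.image_subset_iff.2 fun y hy => hq y hy))
    fun y hy y' hy' h => hinj y hy y' hy' h.le
  have hFd : ∀ y ∈ F, ∀ y' ∈ F, y ⤳ y' → y = y' := by
    intro y hy y' hy' h
    have hle : (hV₀.primeIdealOf ⟨y, hDV hy.1⟩).asIdeal ≤ (hV₀.primeIdealOf ⟨y', hDV hy'.1⟩).asIdeal :=
      (AssPtX.primeIdealOf_le_iff hV₀ (hDV hy.1) (hDV hy'.1)).2 h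
    refine hinj y hy y' hy' ?_
    rw [← IsLocalization.map_under p.primeCompl (X.presheaf.stalk x) (q y), hqQ y hy,
      ← IsLocalization.map_under p.primeCompl (X.presheaf.stalk x) (q y'), hqQ y' hy']
    exact Ideal.map_mono hle
  obtain ⟨O, s, hFO, hs⟩ := InvUfdLib.exists_frame_finset (L := N) hN
    ((hV₀.basicOpen a).preimage_of_isOpenImmersion U.ι (by rw [Scheme.Opens.opensRange_ι]; exact hDU))
    (U.ι ⁻¹' F) (hF.preimage U.ι.isOpenEmbedding.injective.injOn) (fun z hz => hz.1)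
    fun z hz z' hz' h => U.ι.isOpenEmbedding.injective (hFd _ hz _ hz' (h.map U.ι.continuous))
  let O' : X.Opens := U.ι ''ᵁ O ⊓ X.basicOpen a
  choose! g hgle hg using fun y (hy : y ∈ F) =>
    hV₀.exists_basicOpen_le (V := O') ⟨y, ⟨⟨⟨y, hDU hy.1⟩, hFO (show (⟨y, hDU hy.1⟩ : U) ∈ U.ι ⁻¹' F from hy), rfl⟩, hy.1⟩⟩
      (hDV hy.1)
  obtain ⟨t, n, ht, hmem⟩ := exists_mul_pow_mem p (Ideal.span (g '' F)) a fun Q hQ hQp hIQ => by
    by_contra haQ
    let P : PrimeSpectrum Γ(X, V₀) := ⟨Q, hQ⟩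
    have hr : hV₀.fromSpec P ∈ V₀ := hV₀.range_fromSpec.le ⟨P, rfl⟩
    have hP : hV₀.primeIdealOf ⟨_, hr⟩ = P :=
      hV₀.fromSpec.isOpenEmbedding.injective (hV₀.fromSpec_primeIdealOf ⟨_, hr⟩)
    have hyF : hV₀.fromSpec P ∈ F := ⟨(QCoh.mem_basicOpen_iff_notMem hV₀ hr a).2 (by rw [hP]; exact haQ),
      (AssPtX.primeIdealOf_le_iff hV₀ hr hxV₀).1 (by rw [hP]; exact hQp)⟩
    exact (QCoh.mem_basicOpen_iff_notMem hV₀ hr (g _)).1 (hg _ hyF)
      (by rw [hP]; exact hIQ (Ideal.subset_span ⟨_, hyF, rfl⟩))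
  let V := X.basicOpen t
  have hVO : U.ι ⁻¹ᵁ V ≤ O := by
    intro z hz
    have hzV₀ : U.ι z ∈ V₀ := X.basicOpen_le t hz
    have hza : U.ι z ∈ X.basicOpen a := ha.ge ⟨z.2, hzV₀⟩
    have htQ := (QCoh.mem_basicOpen_iff_notMem hV₀ hzV₀ t).1 hz
    have haQ := (QCoh.mem_basicOpen_iff_notMem hV₀ hzV₀ a).1 hza
    obtain ⟨y, hy, hgy⟩ : ∃ y ∈ F, g y ∉ (hV₀.primeIdealOf ⟨U.ι z, hzV₀⟩).asIdeal := by
      by_contra hcon
      push Not at hcon
      rcases Ideal.IsPrime.mem_or_mem inferInstance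
        ((Ideal.span_le.2 (by rintro _ ⟨y, hy, rfl⟩; exact hcon y hy)) hmem) with h | h
      · exact htQ h
      · exact haQ (Ideal.IsPrime.mem_of_pow_mem inferInstance _ h)
    obtain ⟨z', hz', he⟩ := (hgle y hy ((QCoh.mem_basicOpen_iff_notMem hV₀ hzV₀ (g y)).2 hgy)).1
    exact U.ι.isOpenEmbedding.injective he ▸ hz'
  refine ⟨V, AModX.res N hVO s, (QCoh.mem_basicOpen_iff_notMem hV₀ hxV₀ t).2 ht, ?_,
    fun y hy hyU => honly y (X.basicOpen_le t hy) hyU⟩
  exact isFrame_push U N (inf_le_right : V ⊓ U ≤ U) _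
    ((hs.res hVO).res (U.ι.preimage_mono (inf_le_left : V ⊓ U ≤ V)))

end Groth.Agent.Boundary
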